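import Groth.Agent.MultTori.K89.IntAlg
import Groth.Agent.AbVar.K817.FormSec
import Groth.Agent.Dix.ProjProper

/-!
# The comparison of projective coordinates of the rational points of a proper scheme

`X` is a proper scheme over a field `K`, `M` an invertible module, `t` a family of sections generating
`M`, `s` any family of sections.  `exists_rel`: there are homogeneous integral relations of the `s i`
over the `t j`, satisfied by the coordinates of all rational points of `X`.
-/

set_option autoImplicit false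
universe u

open CategoryTheory CategoryTheory.Limits AlgebraicGeometry Opposite TopologicalSpace HomogeneousLocalization
open Groth.Agent.CurvesC.ProjSpaceBasic (T Dp ratio X_mem Xh iSup_Dp)
open Groth.Agent.Fdesc.LocGen Groth.Agent.Krr.H484.PnHom K817.FormSec

namespace K89.HtCmp

variable {K : Type u} [Field K]

/-- A constant, as a function on `Spec K`. -/
noncomputable abbrev cst (c : K) : Γ(Spec (CommRingCat.of K), ⊤) :=
  (Scheme.ΓSpecIso (CommRingCat.of K)).inv.hom c

theorem cst_injective : Function.Injective (cst (K := K)) := by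
  intro a b h
  have h1 := congrArg (Scheme.ΓSpecIso (CommRingCat.of K)).hom.hom h
  change (Scheme.ΓSpecIso (CommRingCat.of K)).hom ((Scheme.ΓSpecIso (CommRingCat.of K)).inv a) =
    (Scheme.ΓSpecIso (CommRingCat.of K)).hom ((Scheme.ΓSpecIso (CommRingCat.of K)).inv b) at h1
  rw [← ConcreteCategory.comp_apply, ← ConcreteCategory.comp_apply, Iso.inv_hom_id] at h1
  exact h1

theorem cst_surjective : Function.Surjective (cst (K := K)) := by
  intro a
  refine ⟨(Scheme.ΓSpecIso (CommRingCat.of K)).hom a, ?_⟩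
  change (Scheme.ΓSpecIso (CommRingCat.of K)).inv ((Scheme.ΓSpecIso (CommRingCat.of K)).hom a) = a
  rw [← ConcreteCategory.comp_apply, Iso.hom_inv_id]
  rfl

section point

variable {n : ℕ} (y : Spec (CommRingCat.of K) ⟶ CohB1.ProjSpace n K)

theorem cst_val (i : Fin (n + 1)) (h : (⊤ : (Spec (CommRingCat.of K)).Opens) ≤ y ⁻¹ᵁ Dp n K i)
    (f : Γ(CohB1.ProjSpace n K, Dp n K i)) : cst (val y i h f) = y.appLE (Dp n K i) ⊤ h f := by
  change (Scheme.ΓSpecIso (CommRingCat.of K)).inv ((Scheme.ΓSpecIso (CommRingCat.of K)).hom _) = _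
  rw [← ConcreteCategory.comp_apply, Iso.hom_inv_id]
  rfl

variable {N : (Spec (CommRingCat.of K)).Modules}
  (τ : (Scheme.Modules.pullback y).obj (Twist.twistProjSpace n K 1) ≅ N)
  {e : Γ(N, ⊤)} (he : IsGen e) {ρ : Fin (n + 1) → K}
  (hρ : ∀ j, τ.hom.app ⊤ (pullTop y (coordSec n K j)) = cst (ρ j) • e)

include he hρ in
theorem coord_eq (i : Fin (n + 1)) (h : (⊤ : (Spec (CommRingCat.of K)).Opens) ≤ y ⁻¹ᵁ Dp n K i) :
    ρ i ≠ 0 ∧ ∀ j, ρ j = val y i h (ratio n K i j) * ρ i := by
  constructor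
  · intro h0
    have h1 := (isGen_sec_preimage y τ i).res h
    rw [res_sec, sec_homOf, res_refl, hρ i, h0] at h1
    have h2 : IsUnit (cst (0 : K)) := he.isUnit_of_smul h1
    have h3 : (cst (0 : K)) = 0 := map_zero _
    rw [h3] at h2
    have : Nontrivial Γ(Spec (CommRingCat.of K), ⊤) := (cst_injective (K := K)).nontrivial
    exact not_isUnit_zero h2
  · intro j
    have h1 := congrArg (res N h) (ratio_smul_sec y τ i j)
    rw [res_smul, res_sec, res_sec, sec_homOf, sec_homOf, res_refl, res_refl, hρ i, hρ j, smul_smul] at h1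
    have h2 := he.ext h1
    apply cst_injective
    rw [← h2]
    refine Eq.trans ?_ (map_mul (Scheme.ΓSpecIso (CommRingCat.of K)).inv.hom _ _).symm
    exact congrArg (· * cst (ρ i)) (cst_val y i h (ratio n K i j)).symm

include he hρ in
theorem ne_zero : ρ ≠ 0 := by
  obtain ⟨i, h⟩ := exists_Dp y
  intro h0
  exact (coord_eq y τ he hρ i h).1 (congrFun h0 i)

include he hρ in
theorem eval_eq_zero (hy : y ≫ CohB1.ProjSpace.toSpec n K = 𝟙 _) {m : ℕ}
    {F : MvPolynomial (Fin (n + 1)) K} (hF : F.IsHomogeneous m)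
    (hyF : y (pt K) ∉ Proj.basicOpen (CohB1.polyGrading n K) F) : MvPolynomial.eval ρ F = 0 := by
  obtain ⟨i, h⟩ := exists_Dp y
  obtain ⟨h0, hj⟩ := coord_eq y τ he hρ i h
  have hFs : F ∈ CohB1.polyGrading n K (m • 1) := by
    rw [smul_eq_mul, mul_one]
    exact (MvPolynomial.mem_homogeneousSubmodule _ _).2 hF
  have hFs' : F ∈ CohB1.polyGrading n K m := (MvPolynomial.mem_homogeneousSubmodule _ _).2 hF
  have h1 := val_deh y hy i h m F hFs
  have h2 := (val_eq_zero_iff y i h ((Proj.awayToSection (CohB1.polyGrading n K) (MvPolynomial.X i)).hom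
    (Away.mk (CohB1.polyGrading n K) (X_mem n K i) m F hFs))).2 (by
      intro h5
      rw [basicOpen_deh i m F hFs hFs'] at h5
      exact hyF h5.1)
  rw [h1] at h2
  have h3 : ρ = ρ i • fun j => val y i h (ratio n K i j) := by
    funext j
    rw [Pi.smul_apply, smul_eq_mul, hj j, mul_comm]
  rw [h3]
  have h4 : MvPolynomial.eval (ρ i • fun j => val y i h (ratio n K i j)) F =
      ρ i ^ m * MvPolynomial.eval (fun j => val y i h (ratio n K i j)) F :=
    Groth.Agent.CurvesC.ProjMap.eval₂_smul (RingHom.id K) (ρ i) _ hF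
  rw [h4, h2, mul_zero]

end point

/-! ### Closed subsets of projective space -/

/-- The forms vanishing on a subset of projective space. -/
def forms {n : ℕ} (Z : Set (CohB1.ProjSpace n K)) : Set (MvPolynomial (Fin (n + 1)) K) :=
  {F | ∃ m : ℕ, F.IsHomogeneous m ∧ ∀ z ∈ Z, z ∉ Proj.basicOpen (CohB1.polyGrading n K) F}

theorem mem_of_forms {n : ℕ} {Z : Set (CohB1.ProjSpace n K)} (hZ : IsClosed Z) {κ : Type*}
    (t : κ → Fin (n + 1)) (ht : ∀ z ∈ Z, ∃ j, z ∈ Dp n K (t j))
    (p : Ideal (MvPolynomial (Fin (n + 1)) K)) (hp : p.IsPrime)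
    (hph : p.IsHomogeneous (MvPolynomial.homogeneousSubmodule (Fin (n + 1)) K))
    (hpZ : forms Z ⊆ p) (hpt : ∀ j, MvPolynomial.X (t j) ∈ p) (i : Fin (n + 1)) :
    MvPolynomial.X i ∈ p := by
  by_contra hi
  let P : ProjectiveSpectrum (CohB1.polyGrading n K) :=
    ⟨⟨p, hph⟩, hp, fun hle => hi (hle (HomogeneousIdeal.mem_irrelevant_of_mem _ one_pos (X_mem n K i)))⟩
  · have hPZ : P ∉ Z := by
      intro hPZ
      obtain ⟨j, hj⟩ := ht P hPZ
      exact hj (hpt j)
    obtain ⟨s, hs⟩ := (ProjectiveSpectrum.isClosed_iff_zeroLocus (CohB1.polyGrading n K) Z).1 hZ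
    rw [hs] at hPZ
    obtain ⟨f, hf, hfp⟩ := Set.not_subset.1 hPZ
    have h1 : ∃ m, ((DirectSum.decompose (CohB1.polyGrading n K) f) m :
        MvPolynomial (Fin (n + 1)) K) ∉ p := by
      by_contra hcon
      push Not at hcon
      exact hfp ((Ideal.IsHomogeneous.mem_iff _ hph).2 hcon)
    obtain ⟨m, hm⟩ := h1
    refine hm (hpZ ⟨m, ((DirectSum.decompose (CohB1.polyGrading n K) f) m).2, fun z hz hzm => hzm ?_⟩)
    rw [hs] at hz
    exact (Ideal.IsHomogeneous.mem_iff _ (z : ProjectiveSpectrum (CohB1.polyGrading n K)).asHomogeneousIdeal.2).1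
      (hz hf) m

/-! ### The comparison theorem -/

theorem exists_comp_iso {X Y : Scheme.{u}} {n : ℕ} {φ : X ⟶ CohB1.ProjSpace n K} {M : X.Modules}
    (ε : (Scheme.Modules.pullback φ).obj (Twist.twistProjSpace n K 1) ≅ M) (x : Y ⟶ X) :
    ∃ τ : (Scheme.Modules.pullback (x ≫ φ)).obj (Twist.twistProjSpace n K 1) ≅
        (Scheme.Modules.pullback x).obj M, ∀ i, τ.hom.app ⊤ (pullTop (x ≫ φ) (coordSec n K i)) =
          pullTop x (ε.hom.app ⊤ (pullTop φ (coordSec n K i))) := by
  refine ⟨((Scheme.Modules.pullbackComp x φ).symm.app (Twist.twistProjSpace n K 1)) ≪≫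
    (Scheme.Modules.pullback x).mapIso ε, fun i => ?_⟩
  have h1 : ((Scheme.Modules.pullbackComp x φ).inv.app (Twist.twistProjSpace n K 1)).app ⊤
      (pullTop (x ≫ φ) (coordSec n K i)) = pullTop x (pullTop φ (coordSec n K i)) :=
    pullSec_comp x φ (coordSec n K i)
  have h2 : ((Scheme.Modules.pullback x).map ε.hom).app ⊤ (pullTop x (pullTop φ (coordSec n K i))) =
      pullTop x (ε.hom.app ⊤ (pullTop φ (coordSec n K i))) :=
    pullback_map_pullSec x ε.hom (U := ⊤) (pullTop φ (coordSec n K i))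
  refine Eq.trans ?_ h2
  exact congrArg (((Scheme.Modules.pullback x).map ε.hom).app ⊤) h1

/-- **Comparison of coordinates**: homogeneous integral relations of the coordinates `β` given by any
sections over the coordinates `α` given by generating sections, at all rational points. -/
theorem exists_rel {X : Scheme.{u}} (q : X ⟶ Spec (CommRingCat.of K)) [IsProper q] {M : X.Modules}
    {τ σ : Type*} [Fintype τ] [Fintype σ] (t : τ → Γ(M, ⊤)) (s : σ → Γ(M, ⊤))
    (ht : ⨆ j, CohB1.genLocus M (homOf (t j)) = ⊤) :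
    ∃ (d : ℕ) (b : σ → ℕ → MvPolynomial τ K), 0 < d ∧ (∀ i k, (b i k).IsHomogeneous k) ∧
      ∀ (x : Spec (CommRingCat.of K) ⟶ X), x ≫ q = 𝟙 _ →
        ∀ (e : Γ((Scheme.Modules.pullback x).obj M, ⊤)), IsGen e →
        ∀ (α : τ → K) (β : σ → K), (∀ j, pullTop x (t j) = cst (α j) • e) →
          (∀ i, pullTop x (s i) = cst (β i) • e) →
        ∀ i, β i ^ d + ∑ k ∈ Finset.Icc 1 d, MvPolynomial.eval α (b i k) * β i ^ (d - k) = 0 := by
  classical
  rcases isEmpty_or_nonempty τ with hτ | ⟨⟨j₀⟩⟩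
  · refine ⟨1, fun _ _ => 0, one_pos, fun _ _ => MvPolynomial.isHomogeneous_zero _ _ _, fun x => ?_⟩
    exfalso
    rw [iSup_of_empty] at ht
    have h1 : x (pt K) ∈ (⊤ : X.Opens) := trivial
    rw [← ht] at h1
    exact h1
  · obtain ⟨N, ⟨eqv⟩⟩ : ∃ N : ℕ, Nonempty (τ ⊕ σ ≃ Fin (N + 1)) := by
      have h1 : 0 < Fintype.card (τ ⊕ σ) := Fintype.card_pos_iff.2 ⟨Sum.inl j₀⟩
      exact ⟨Fintype.card (τ ⊕ σ) - 1, ⟨(Fintype.equivFin _).trans (finCongr (by omega))⟩⟩
    let w : Fin (N + 1) → Γ(M, ⊤) := fun i => Sum.elim t s (eqv.symm i)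
    have hw : ⨆ i, CohB1.genLocus M (homOf (w i)) = ⊤ := by
      rw [eq_top_iff, ← ht]
      refine iSup_le fun j => ?_
      refine le_trans (le_of_eq ?_) (le_iSup (fun i => CohB1.genLocus M (homOf (w i))) (eqv (Sum.inl j)))
      dsimp only [w]
      rw [Equiv.symm_apply_apply, Sum.elim_inl]
    obtain ⟨φ, hφ, ε, hε⟩ := exists_hom q M w hw
    have hpr : IsProper φ := by
      have h1 : IsProper (φ ≫ CohB1.ProjSpace.toSpec N K) := by rw [hφ]; infer_instance
      exact IsProper.of_comp φ (CohB1.ProjSpace.toSpec N K)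
    have hZ : IsClosed (Set.range φ) := by
      have h1 := φ.isClosedMap Set.univ isClosed_univ
      rwa [Set.image_univ] at h1
    have hcov : ∀ z ∈ Set.range φ, ∃ j, z ∈ Dp N K (eqv (Sum.inl j)) := by
      rintro _ ⟨x, rfl⟩
      have h1 : x ∈ ⨆ j, CohB1.genLocus M (homOf (t j)) := by rw [ht]; trivial
      obtain ⟨j, hj⟩ := Opens.mem_iSup.1 h1
      refine ⟨j, ?_⟩
      have h2 := genLocus_eq φ ε (eqv (Sum.inl j))
      rw [hε] at h2
      dsimp only [w] at h2
      rw [Equiv.symm_apply_apply, Sum.elim_inl] at h2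
      rw [h2] at hj
      exact hj
    obtain ⟨d, b, hd, hb1, hb2⟩ := K89.IntAlg.exists_integral (K := K) (fun j : τ => eqv (Sum.inl j))
      (forms (Set.range φ)) (fun F hF => by obtain ⟨m, hm, -⟩ := hF; exact ⟨m, hm⟩)
      (fun p hp1 hp2 hp3 hp4 => mem_of_forms hZ _ hcov p hp1 hp2 hp3 hp4)
    refine ⟨d, fun i => b (eqv (Sum.inr i)), hd, fun i k => hb1 _ k, fun x hx e he α β hα hβ i => ?_⟩
    let ρ : Fin (N + 1) → K := fun i => Sum.elim α β (eqv.symm i)
    obtain ⟨τ', hτ'⟩ := exists_comp_iso ε x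
    have hρ : ∀ j, τ'.hom.app ⊤ (pullTop (x ≫ φ) (coordSec N K j)) = cst (ρ j) • e := by
      intro j
      rw [hτ' j, hε j]
      obtain ⟨j', rfl⟩ := eqv.surjective j
      dsimp only [w, ρ]
      rw [Equiv.symm_apply_apply]
      rcases j' with j' | j'
      · exact hα j'
      · exact hβ j'
    have hy : (x ≫ φ) ≫ CohB1.ProjSpace.toSpec N K = 𝟙 _ := by
      rw [Category.assoc, hφ, hx]
    have h1 := hb2 ρ (ne_zero (x ≫ φ) τ' he hρ) (fun F hF => by
      obtain ⟨m, hm, hm2⟩ := hF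
      exact eval_eq_zero (x ≫ φ) τ' he hρ hy hm (hm2 _ ⟨x (pt K), rfl⟩)) (eqv (Sum.inr i))
    have h2 : ρ (eqv (Sum.inr i)) = β i := by
      dsimp only [ρ]
      rw [Equiv.symm_apply_apply, Sum.elim_inr]
    have h3 : (fun j => ρ (eqv (Sum.inl j))) = α := by
      funext j
      dsimp only [ρ]
      rw [Equiv.symm_apply_apply, Sum.elim_inl]
    rw [h2, h3] at h1
    exact h1

end K89.HtCmp
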