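import Groth.Agent.MultTori.K89.HtCmp
import Groth.Agent.Grpsch.PicGrp

/-!
# Coordinates of rational points given by sections of invertible modules

`HasVal x M s ρ`: the vector `ρ` is a vector of coordinates of the family of sections `s` of `M` at the
`K`-point `x`, i.e. `x^* s_j = ρ_j e` for a generator `e` of `x^* M`.  Existence, uniqueness up to a
scalar, compatibility with isomorphisms, pullbacks, tensor products and powers; the comparison theorem
`exists_rel` in terms of `HasVal`; a point of projective space is determined by its coordinates.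
-/

set_option autoImplicit false
universe u

open CategoryTheory CategoryTheory.Limits AlgebraicGeometry Opposite TopologicalSpace
open Groth.Agent.Fdesc.LocGen Groth.Agent.Krr.H484.PnHom K817.FormSec K89.HtCmp

namespace K89.HtVal

variable {K : Type u} [Field K] {X Y : Scheme.{u}}

theorem cst_mul (a b : K) : cst (a * b) = cst a * cst b := map_mul _ a b

theorem cst_one : cst (1 : K) = 1 := map_one _

theorem cst_zero : cst (0 : K) = 0 := map_zero _

theorem cst_isUnit_iff (a : K) : IsUnit (cst a) ↔ a ≠ 0 := by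
  have : Nontrivial Γ(Spec (CommRingCat.of K), ⊤) := (cst_injective (K := K)).nontrivial
  constructor
  · rintro h rfl
    rw [cst_zero] at h
    exact not_isUnit_zero h
  · intro h
    exact (isUnit_iff_ne_zero.2 h).map (Scheme.ΓSpecIso (CommRingCat.of K)).inv.hom

/-- `ρ` is a vector of coordinates of the sections `s` at the point `x`. -/
def HasVal (x : Spec (CommRingCat.of K) ⟶ X) (M : X.Modules) {ι : Type*} (s : ι → Γ(M, ⊤))
    (ρ : ι → K) : Prop :=
  ∃ e : Γ((Scheme.Modules.pullback x).obj M, ⊤), IsGen e ∧ ∀ j, pullTop x (s j) = cst (ρ j) • e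

variable {x : Spec (CommRingCat.of K) ⟶ X} {M N : X.Modules} {ι κ : Type*}

theorem HasVal.of_app {s : ι → Γ(M, ⊤)} {ρ : ι → K} {N' : (Spec (CommRingCat.of K)).Modules}
    (φ : (Scheme.Modules.pullback x).obj M ⟶ N') [IsIso φ] {e : Γ(N', ⊤)} (he : IsGen e)
    (h : ∀ j, φ.app ⊤ (pullTop x (s j)) = cst (ρ j) • e) : HasVal x M s ρ := by
  refine ⟨(inv φ).app ⊤ e, he.app (inv φ), fun j => ?_⟩
  have h1 : (inv φ).app ⊤ (φ.app ⊤ (pullTop x (s j))) = pullTop x (s j) := by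
    have h2 : φ ≫ inv φ = 𝟙 _ := IsIso.hom_inv_id φ
    exact congr(($(h2)).app ⊤ (pullTop x (s j)))
  rw [← h1, h j, Scheme.Modules.Hom.app_smul]

theorem exists_hasVal (x : Spec (CommRingCat.of K) ⟶ X) (hM : PicF.IsInvertible M)
    (s : ι → Γ(M, ⊤)) : ∃ ρ : ι → K, HasVal x M s ρ := by
  obtain ⟨U, e, hU, he⟩ := (isInvertible_iff _).1 (isInvertible_pullback x hM) (pt K)
  have hU' : U = ⊤ := by
    rw [eq_top_iff]
    intro z _
    have hz : z = pt K := Subsingleton.elim (α := PrimeSpectrum K) _ _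
    rw [hz]
    exact hU
  subst hU'
  have h1 : ∀ j, ∃ c : K, pullTop x (s j) = cst c • e := by
    intro j
    obtain ⟨a, ha⟩ := he.exists_eq (pullTop x (s j))
    obtain ⟨c, rfl⟩ := cst_surjective a
    exact ⟨c, ha⟩
  choose ρ hρ using h1
  exact ⟨ρ, e, he, hρ⟩

theorem HasVal.smul {s : ι → Γ(M, ⊤)} {ρ : ι → K} (h : HasVal x M s ρ) {a : K} (ha : a ≠ 0) :
    HasVal x M s (fun j => a * ρ j) := by
  obtain ⟨e, he, hj⟩ := h
  refine ⟨cst a⁻¹ • e, he.unit_smul ((cst_isUnit_iff _).2 (inv_ne_zero ha)), fun j => ?_⟩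
  rw [hj j, smul_smul, ← cst_mul]
  congr 2
  field_simp

theorem HasVal.exists_sum {s : ι → Γ(M, ⊤)} {t : κ → Γ(M, ⊤)} {ρ : ι → K} {σ : κ → K}
    (h : HasVal x M s ρ) (h' : HasVal x M t σ) :
    ∃ a : K, a ≠ 0 ∧ HasVal x M (Sum.elim s t) (Sum.elim ρ (fun j => a * σ j)) := by
  obtain ⟨e, he, hj⟩ := h
  obtain ⟨e', he', hj'⟩ := h'
  obtain ⟨c, hc, rfl⟩ := he.exists_unit he'
  obtain ⟨a, rfl⟩ := cst_surjective c
  refine ⟨a, (cst_isUnit_iff a).1 hc, e, he, ?_⟩
  rintro (j | j)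
  · exact hj j
  · rw [Sum.elim_inr, Sum.elim_inr, hj' j, smul_smul, ← cst_mul, mul_comm]

theorem HasVal.unique {s : ι → Γ(M, ⊤)} {ρ ρ' : ι → K} (h : HasVal x M s ρ)
    (h' : HasVal x M s ρ') : ∃ a : K, a ≠ 0 ∧ ∀ j, ρ j = a * ρ' j := by
  obtain ⟨a, ha, e, he, hj⟩ := h.exists_sum h'
  refine ⟨a, ha, fun j => ?_⟩
  have h1 := hj (Sum.inl j)
  have h2 := hj (Sum.inr j)
  rw [Sum.elim_inl] at h1
  rw [Sum.elim_inr, Sum.elim_inr] at h2
  rw [Sum.elim_inl] at h1
  exact cst_injective (he.ext (h1.symm.trans h2))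

theorem HasVal.reindex {s : ι → Γ(M, ⊤)} {ρ : ι → K} (h : HasVal x M s ρ) (g : κ → ι) :
    HasVal x M (fun j => s (g j)) (fun j => ρ (g j)) := by
  obtain ⟨e, he, hj⟩ := h
  exact ⟨e, he, fun j => hj (g j)⟩

theorem HasVal.iso {s : ι → Γ(M, ⊤)} {ρ : ι → K} (h : HasVal x M s ρ) (ψ : M ≅ N) :
    HasVal x N (fun j => ψ.hom.app ⊤ (s j)) ρ := by
  obtain ⟨e, he, hj⟩ := h
  refine ⟨((Scheme.Modules.pullback x).map ψ.hom).app ⊤ e, he.app _, fun j => ?_⟩
  have h1 : ((Scheme.Modules.pullback x).map ψ.hom).app ⊤ (pullTop x (s j)) =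
      pullTop x (ψ.hom.app ⊤ (s j)) := pullback_map_pullSec x ψ.hom (U := ⊤) (s j)
  rw [← h1, hj j, Scheme.Modules.Hom.app_smul]

theorem HasVal.comp {f : X ⟶ Y} {M : Y.Modules} {s : ι → Γ(M, ⊤)} {ρ : ι → K}
    (h : HasVal (x ≫ f) M s ρ) :
    HasVal x ((Scheme.Modules.pullback f).obj M) (fun j => pullTop f (s j)) ρ := by
  obtain ⟨e, he, hj⟩ := h
  refine ⟨((Scheme.Modules.pullbackComp x f).inv.app M).app ⊤ e, he.app _, fun j => ?_⟩
  have h1 : ((Scheme.Modules.pullbackComp x f).inv.app M).app ⊤ (pullTop (x ≫ f) (s j)) =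
      pullTop x (pullTop f (s j)) := pullSec_comp x f (s j)
  rw [← h1, hj j, Scheme.Modules.Hom.app_smul]

theorem HasVal.of_comp {f : X ⟶ Y} {M : Y.Modules} {s : ι → Γ(M, ⊤)} {ρ : ι → K}
    (h : HasVal x ((Scheme.Modules.pullback f).obj M) (fun j => pullTop f (s j)) ρ) :
    HasVal (x ≫ f) M s ρ := by
  obtain ⟨e, he, hj⟩ := h
  refine HasVal.of_app ((Scheme.Modules.pullbackComp x f).inv.app M) he fun j => ?_
  have h1 : ((Scheme.Modules.pullbackComp x f).inv.app M).app ⊤ (pullTop (x ≫ f) (s j)) =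
      pullTop x (pullTop f (s j)) := pullSec_comp x f (s j)
  rw [h1, hj j]

theorem HasVal.tmul (hM : PicF.IsInvertible M) (hN : PicF.IsInvertible N) {s : ι → Γ(M, ⊤)}
    {t : κ → Γ(N, ⊤)} {ρ : ι → K} {σ : κ → K} (h : HasVal x M s ρ) (h' : HasVal x N t σ) :
    HasVal x (CohB1.tensorMod M N) (fun p : ι × κ => Groth.Agent.Fdesc.LocGen.tmul (s p.1) (t p.2))
      (fun p => ρ p.1 * σ p.2) := by
  obtain ⟨e, he, hj⟩ := h
  obtain ⟨e', he', hj'⟩ := h'
  have := Groth.Agent.Grpsch.PicGrp.isIso_pullTensor x hM hN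
  refine HasVal.of_app (Groth.Agent.Grpsch.PicGrp.pullTensor x M N) (he.tmul he') fun p => ?_
  have h1 : (Groth.Agent.Grpsch.PicGrp.pullTensor x M N).app ⊤
      (pullTop x (Groth.Agent.Fdesc.LocGen.tmul (s p.1) (t p.2))) = Groth.Agent.Fdesc.LocGen.tmul (pullTop x (s p.1)) (pullTop x (t p.2)) :=
    Groth.Agent.Grpsch.PicGrp.pullTensor_app x (U := ⊤) (s p.1) (t p.2)
  rw [h1, hj, hj', smul_tmul, tmul_smul, smul_smul, ← cst_mul]

theorem hasVal_one (x : Spec (CommRingCat.of K) ⟶ X) :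
    HasVal x (Coh.structureModule X) (fun _ : ι => one ⊤) (fun _ => 1) :=
  ⟨pullTop x (one ⊤), (isGen_one ⊤).pullTop x, fun _ => by rw [cst_one, one_smul]⟩

theorem HasVal.pow (hM : PicF.IsInvertible M) {s : ι → Γ(M, ⊤)} {ρ : ι → K} (h : HasVal x M s ρ)
    (k : ℕ) : HasVal x (CohB1.tensorPow M k) (fun j => Groth.Agent.Fdesc.LocGen.pow (s j) k) (fun j => ρ j ^ k) := by
  induction k with
  | zero =>
    simp only [pow_zero]
    exact hasVal_one x
  | succ k ih =>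
    have h1 := (HasVal.tmul (isInvertible_tensorPow hM k) hM ih h).reindex (fun j : ι => (j, j))
    simp only [pow_succ]
    exact h1

theorem HasVal.ne_zero {s : ι → Γ(M, ⊤)} {ρ : ι → K} (h : HasVal x M s ρ)
    (hs : ⨆ j, CohB1.genLocus M (homOf (s j)) = ⊤) : ρ ≠ 0 := by
  obtain ⟨e, he, hj⟩ := h
  have h1 : x (pt K) ∈ ⨆ j, CohB1.genLocus M (homOf (s j)) := by rw [hs]; trivial
  obtain ⟨j, hxj⟩ := Opens.mem_iSup.1 h1
  have h2 := (isGen_sec_genLocus (homOf (s j))).pullSec x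
  have h3 : (⊤ : (Spec (CommRingCat.of K)).Opens) ≤ x ⁻¹ᵁ CohB1.genLocus M (homOf (s j)) := by
    intro z _
    have hz : z = pt K := Subsingleton.elim (α := PrimeSpectrum K) _ _
    rw [hz]
    exact hxj
  have h4 := h2.res h3
  rw [sec_homOf, ← res_pullSec, res_res] at h4
  have h5 : IsGen (pullTop x (s j)) := by
    have h6 : res ((Scheme.Modules.pullback x).obj M) (le_refl ⊤) (pullTop x (s j)) =
        pullTop x (s j) := res_refl _ _
    rw [← h6]
    exact h4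
  rw [hj j] at h5
  have h6 := (cst_isUnit_iff _).1 (he.isUnit_of_smul h5)
  exact fun h0 => h6 (congrFun h0 j)

/-- **The comparison theorem**, for coordinate vectors. -/
theorem exists_rel (q : X ⟶ Spec (CommRingCat.of K)) [IsProper q] {τ σ : Type*} [Fintype τ]
    [Fintype σ] (t : τ → Γ(M, ⊤)) (s : σ → Γ(M, ⊤)) (ht : ⨆ j, CohB1.genLocus M (homOf (t j)) = ⊤) :
    ∃ (d : ℕ) (b : σ → ℕ → MvPolynomial τ K), 0 < d ∧ (∀ i k, (b i k).IsHomogeneous k) ∧
      ∀ (x : Spec (CommRingCat.of K) ⟶ X), x ≫ q = 𝟙 _ → ∀ (α : τ → K) (β : σ → K),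
        HasVal x M t α → HasVal x M s β → ∃ a : K, a ≠ 0 ∧ ∀ i,
          (a * β i) ^ d + ∑ k ∈ Finset.Icc 1 d, MvPolynomial.eval α (b i k) * (a * β i) ^ (d - k) = 0 := by
  obtain ⟨d, b, hd, hb1, hb2⟩ := K89.HtCmp.exists_rel q t s ht
  refine ⟨d, b, hd, hb1, fun x hx α β hα hβ => ?_⟩
  obtain ⟨a, ha, e, he, hj⟩ := hα.exists_sum hβ
  exact ⟨a, ha, hb2 x hx e he α (fun i => a * β i) (fun j => hj (Sum.inl j)) (fun i => hj (Sum.inr i))⟩

/-- A rational point of projective space is determined by its coordinates. -/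
theorem eq_of_hasVal {n : ℕ} {y y' : Spec (CommRingCat.of K) ⟶ CohB1.ProjSpace n K}
    (hy : y ≫ CohB1.ProjSpace.toSpec n K = 𝟙 _) (hy' : y' ≫ CohB1.ProjSpace.toSpec n K = 𝟙 _)
    {ρ : Fin (n + 1) → K} (h : HasVal y (Twist.twistProjSpace n K 1) (coordSec n K) ρ)
    (h' : HasVal y' (Twist.twistProjSpace n K 1) (coordSec n K) ρ) : y = y' := by
  have key : ∀ {y : Spec (CommRingCat.of K) ⟶ CohB1.ProjSpace n K},
      HasVal y (Twist.twistProjSpace n K 1) (coordSec n K) ρ →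
      ∃ e : (Scheme.Modules.pullback y).obj (Twist.twistProjSpace n K 1) ≅
        Coh.structureModule (Spec (CommRingCat.of K)),
        ∀ j, e.hom.app ⊤ (pullTop y (coordSec n K j)) = ofFun (cst (ρ j)) := by
    intro y h
    obtain ⟨e, he, hj⟩ := h
    have h1 : IsIso (homOf e) := by
      rw [isIso_iff_isGen, sec_homOf, res_refl]
      exact he
    refine ⟨(asIso (homOf e)).symm, fun j => ?_⟩
    have h2 : (homOf e).app ⊤ (ofFun (cst (ρ j))) = pullTop y (coordSec n K j) := by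
      rw [homOf_app, res_refl, hj j]
    rw [← h2]
    have h3 : homOf e ≫ inv (homOf e) = 𝟙 _ := IsIso.hom_inv_id _
    exact congr(($(h3)).app ⊤ (ofFun (cst (ρ j))))
  obtain ⟨e, he⟩ := key h
  obtain ⟨e', he'⟩ := key h'
  exact hom_unique hy hy' e e' he he'

end K89.HtVal
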