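import Mathlib.LinearAlgebra.Matrix.Charpoly.Univ
import Mathlib.LinearAlgebra.Matrix.ToLinearEquiv
import Mathlib.RingTheory.MvPolynomial.Homogeneous
import Mathlib.RingTheory.GradedAlgebra.Radical
import Mathlib.RingTheory.GradedAlgebra.Homogeneous.Ideal
import Mathlib.Algebra.BigOperators.Intervals
import Mathlib.RingTheory.Finiteness.Ideal

/-!
# Homogeneous integral relations for the coordinates of the points of a projective scheme

* `exists_of_eigen`: the determinant trick, homogeneous form.
* `exists_integral`: if the linear forms `X (t j)` have no common zero on the closed subscheme of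
  projective space defined by the forms of `F`, then all coordinates `ρ i` of the points of that
  subscheme are integral over the `ρ (t j)`, with homogeneous relations.
-/

set_option autoImplicit false

namespace K89.IntAlg

open MvPolynomial

variable {K : Type*} [Field K]

/-- The determinant trick: an eigenvalue of a matrix of linear forms is integral, with a homogeneous
relation. -/
theorem exists_of_eigen {B τ : Type*} [Fintype B] [Fintype τ] (c : B → B → τ → K) :
    ∃ b : ℕ → MvPolynomial τ K, (∀ k, (b k).IsHomogeneous k) ∧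
      ∀ (y : τ → K) (x : K) (v : B → K), v ≠ 0 →
        (∀ a, x * v a = ∑ a', (∑ j, c a a' j * y j) * v a') →
        x ^ Fintype.card B + ∑ k ∈ Finset.Icc 1 (Fintype.card B),
          eval y (b k) * x ^ (Fintype.card B - k) = 0 := by
  classical
  let A : Matrix B B (MvPolynomial τ K) := Matrix.of fun a a' => ∑ j, C (c a a' j) * X j
  have hA : ∀ a a', (A a a').IsHomogeneous 1 := fun a a' =>
    IsHomogeneous.sum _ _ _ fun j _ => isHomogeneous_C_mul_X _ _
  have hcoeff : ∀ k, k ≤ Fintype.card B → (A.charpoly.coeff (Fintype.card B - k)).IsHomogeneous k := by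
    intro k hk
    have h1 := Matrix.charpoly.univ_coeff_isHomogeneous K B (Fintype.card B - k) k (by omega)
    have h2 := Matrix.charpoly.univ_coeff_eval₂Hom B (C : K →+* MvPolynomial τ K)
      (fun p : B × B => A p.1 p.2) (Fintype.card B - k)
    have h3 : Matrix.of (Function.curry fun p : B × B => A p.1 p.2) = A := rfl
    rw [h3] at h2
    rw [← h2]
    have h4 := h1.eval₂ (C : K →+* MvPolynomial τ K) (fun p : B × B => A p.1 p.2)
      (n := 1) (fun r => isHomogeneous_C _ _) (fun p => hA p.1 p.2)
    rw [one_mul] at h4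
    exact h4
  refine ⟨fun k => if k ≤ Fintype.card B then A.charpoly.coeff (Fintype.card B - k) else 0,
    fun k => ?_, fun y x v hv hx => ?_⟩
  · dsimp only
    split_ifs with h
    · exact hcoeff k h
    · exact isHomogeneous_zero _ _ _
  · let M : Matrix B B K := A.map (eval y)
    have hM : ∀ a a', M a a' = ∑ j, c a a' j * y j := by
      intro a a'
      change eval y (∑ j, C (c a a' j) * X j) = _
      rw [map_sum]
      refine Finset.sum_congr rfl fun j _ => ?_
      rw [map_mul, eval_C, eval_X]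
    have h1 : M.charpoly.eval x = 0 := by
      rw [Matrix.eval_charpoly]
      refine Matrix.exists_mulVec_eq_zero_iff.1 ⟨v, hv, ?_⟩
      rw [Matrix.sub_mulVec]
      funext a
      rw [Pi.sub_apply, Pi.zero_apply, sub_eq_zero, Matrix.scalar_apply, Matrix.mulVec_diagonal, hx a]
      exact Finset.sum_congr rfl fun a' _ => congrArg (· * v a') (hM a a').symm
    have h2 : M.charpoly = A.charpoly.map (eval y) := by
      rw [← Matrix.charpoly_map]
    have h3 : M.charpoly.natDegree = Fintype.card B := Matrix.charpoly_natDegree_eq_dim M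
    have h4 : M.charpoly.coeff (Fintype.card B) = 1 := by
      rw [← h3]
      exact Matrix.charpoly_monic M
    rw [Polynomial.eval_eq_sum_range, h3, Finset.sum_range_succ, h4, one_mul] at h1
    rw [← h1, add_comm]
    congr 1
    refine Finset.sum_bij (fun k _ => Fintype.card B - k) (fun k hk => ?_) (fun k hk k' hk' h => ?_)
      (fun i hi => ?_) (fun k hk => ?_)
    · rw [Finset.mem_Icc] at hk
      rw [Finset.mem_range]
      omega
    · rw [Finset.mem_Icc] at hk hk'
      omega
    · rw [Finset.mem_range] at hi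
      exact ⟨Fintype.card B - i, Finset.mem_Icc.2 ⟨by omega, by omega⟩, by omega⟩
    · rw [Finset.mem_Icc] at hk
      dsimp only
      rw [if_pos hk.2, h2, Polynomial.coeff_map]

attribute [local instance] MvPolynomial.gradedAlgebra

variable {σ τ : Type*}

/-- Forms of degree `m` are linear combinations of products of `m` variables. -/
theorem exists_coeff [Fintype σ] {m : ℕ} {b : MvPolynomial σ K} (hb : b.IsHomogeneous m) :
    ∃ c : (Fin m → σ) → K, b = ∑ β, C (c β) * ∏ l, X (β l) := by
  classical
  have h1 : b ∈ Submodule.span K (Set.range fun β : Fin m → σ => (∏ l, X (β l) : MvPolynomial σ K)) := by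
    have h2 : b ∈ (homogeneousSubmodule σ K 1) ^ m := by
      rw [homogeneousSubmodule_one_pow]
      exact hb
    rw [homogeneousSubmodule_one_eq_span_X, Submodule.span_pow] at h2
    refine Submodule.span_mono ?_ h2
    intro x hx
    obtain ⟨f, rfl⟩ := Set.mem_pow.1 hx
    choose g hg using fun i => (f i).2
    refine ⟨g, ?_⟩
    dsimp only
    rw [← List.prod_ofFn]
    congr 2
    funext i
    exact hg i
  obtain ⟨c, hc⟩ := (Submodule.mem_span_range_iff_exists_fun K).1 h1
  refine ⟨c, hc.symm.trans (Finset.sum_congr rfl fun β _ => ?_)⟩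
  rw [C_mul']

theorem eval_mem_span {F : Set (MvPolynomial σ K)} {ρ : σ → K} (hρ : ∀ f ∈ F, eval ρ f = 0)
    {g : MvPolynomial σ K} (hg : g ∈ Ideal.span F) : eval ρ g = 0 := by
  have h1 : Ideal.span F ≤ RingHom.ker (eval ρ) := Ideal.span_le.2 hρ
  exact h1 hg

/-- A form of degree `m + 1` in the ideal generated by `F` and the `X (t j)` is, modulo `F`, a
combination of the `X (t j)` with coefficients forms of degree `m`. -/
theorem exists_rep [Fintype τ] (t : τ → σ) (F : Set (MvPolynomial σ K))
    (hF : ∀ f ∈ F, ∃ n, f.IsHomogeneous n) {m : ℕ} {g : MvPolynomial σ K} (hg : g.IsHomogeneous (m + 1))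
    (hmem : g ∈ Ideal.span F ⊔ Ideal.span (Set.range fun j => (X (t j) : MvPolynomial σ K))) :
    ∃ b : τ → MvPolynomial σ K, (∀ j, (b j).IsHomogeneous m) ∧
      ∀ ρ : σ → K, (∀ f ∈ F, eval ρ f = 0) → eval ρ g = ∑ j, eval ρ (b j) * ρ (t j) := by
  classical
  obtain ⟨u, hu, w, hw, rfl⟩ := Submodule.mem_sup.1 hmem
  obtain ⟨b, hb⟩ := (Ideal.mem_span_range_iff_exists_fun).1 hw
  have hhom : (Ideal.span F).IsHomogeneous (homogeneousSubmodule σ K) :=
    Ideal.homogeneous_span _ _ fun f hf => by
      obtain ⟨n, hn⟩ := hF f hf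
      exact ⟨n, hn⟩
  let D := DirectSum.decompose (homogeneousSubmodule σ K)
  refine ⟨fun j => (D (b j) m : MvPolynomial σ K), fun j => (D (b j) m).2, fun ρ hρ => ?_⟩
  have h1 : ((D (u + w)) (m + 1) : MvPolynomial σ K) = u + w :=
    DirectSum.decompose_of_mem_same _ hg
  have h2 : ((D (u + w)) (m + 1) : MvPolynomial σ K) = (D u (m + 1) : MvPolynomial σ K) +
      ∑ j, (D (b j) m : MvPolynomial σ K) * X (t j) := by
    have h3 : D (u + w) = D u + ∑ j, D (b j * X (t j)) := by
      rw [← hb]
      exact (DirectSum.decompose_add _ _ _).trans (congrArg _ (DirectSum.decompose_sum _ _ _))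
    rw [h3, DirectSum.add_apply, Submodule.coe_add, DirectSum.sum_apply, AddSubmonoidClass.coe_finsetSum]
    congr 1
    refine Finset.sum_congr rfl fun j _ => ?_
    exact DirectSum.coe_decompose_mul_add_of_right_mem (homogeneousSubmodule σ K)
      (isHomogeneous_X K (t j))
  rw [← h1, h2, map_add, eval_mem_span hρ (hhom (m + 1) hu), zero_add, map_sum]
  refine Finset.sum_congr rfl fun j _ => ?_
  rw [map_mul, eval_X]

/-- **Homogeneous integral relations.** -/
theorem exists_integral [Fintype σ] [Nonempty σ] [Fintype τ] (t : τ → σ) (F : Set (MvPolynomial σ K))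
    (hF : ∀ f ∈ F, ∃ n, f.IsHomogeneous n)
    (H : ∀ p : Ideal (MvPolynomial σ K), p.IsPrime → p.IsHomogeneous (homogeneousSubmodule σ K) →
      F ⊆ p → (∀ j, X (t j) ∈ p) → ∀ i, X i ∈ p) :
    ∃ (d : ℕ) (b : σ → ℕ → MvPolynomial τ K), 0 < d ∧ (∀ i k, (b i k).IsHomogeneous k) ∧
      ∀ ρ : σ → K, ρ ≠ 0 → (∀ f ∈ F, eval ρ f = 0) → ∀ i,
        ρ i ^ d + ∑ k ∈ Finset.Icc 1 d, eval (fun j => ρ (t j)) (b i k) * ρ i ^ (d - k) = 0 := by
  classical
  let I : Ideal (MvPolynomial σ K) :=
    Ideal.span F ⊔ Ideal.span (Set.range fun j => (X (t j) : MvPolynomial σ K))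
  have hI : I.IsHomogeneous (homogeneousSubmodule σ K) := by
    refine Ideal.IsHomogeneous.sup ?_ ?_
    · exact Ideal.homogeneous_span _ _ fun f hf => by
        obtain ⟨n, hn⟩ := hF f hf
        exact ⟨n, hn⟩
    · refine Ideal.homogeneous_span _ _ ?_
      rintro _ ⟨j, rfl⟩
      exact ⟨1, isHomogeneous_X K (t j)⟩
  let J : Ideal (MvPolynomial σ K) := Ideal.span (Set.range X)
  have hJ : J ≤ I.radical := by
    rw [Ideal.span_le]
    rintro _ ⟨i, rfl⟩
    rw [hI.radical_eq]
    refine (Submodule.mem_sInf).2 ?_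
    rintro p ⟨hp1, hp2, hp3⟩
    refine H p hp3 hp1 (fun f hf => hp2 (Ideal.mem_sup_left (Ideal.subset_span hf))) (fun j => ?_) i
    exact hp2 (Ideal.mem_sup_right (Ideal.subset_span ⟨j, rfl⟩))
  have hJfg : J.FG := ⟨(Set.finite_range X).toFinset, by rw [Set.Finite.coe_toFinset]⟩
  obtain ⟨m, hm⟩ := Ideal.exists_pow_le_of_le_radical_of_fg hJ hJfg
  have hmon : ∀ (i : σ) (β : Fin m → σ), (X i * ∏ l, X (β l) : MvPolynomial σ K) ∈ I := by
    intro i β
    refine Ideal.mul_mem_left _ _ (hm ?_)
    have h1 : (∏ l, X (β l) : MvPolynomial σ K) ∈ ∏ _l : Fin m, J :=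
      Ideal.prod_mem_prod fun l _ => Ideal.subset_span ⟨β l, rfl⟩
    rwa [Finset.prod_const, Finset.card_univ, Fintype.card_fin] at h1
  have hdeg : ∀ (i : σ) (β : Fin m → σ), (X i * ∏ l, X (β l) : MvPolynomial σ K).IsHomogeneous (m + 1) := by
    intro i β
    have h1 : (∏ l, X (β l) : MvPolynomial σ K).IsHomogeneous (∑ _l : Fin m, 1) :=
      IsHomogeneous.prod _ _ _ fun l _ => isHomogeneous_X K (β l)
    rw [Finset.sum_const, Finset.card_univ, Fintype.card_fin, smul_eq_mul, mul_one] at h1
    have h2 := (isHomogeneous_X K i).mul h1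
    rwa [add_comm] at h2
  choose b hb1 hb2 using fun (i : σ) (β : Fin m → σ) => exists_rep t F hF (hdeg i β) (hmon i β)
  choose c hc using fun (i : σ) (β : Fin m → σ) (j : τ) => exists_coeff (hb1 i β j)
  choose e he1 he2 using fun i : σ =>
    exists_of_eigen (B := Fin m → σ) (τ := τ) fun β β' j => c i β j β'
  refine ⟨Fintype.card (Fin m → σ), e, Fintype.card_pos, he1, fun ρ hρ0 hρ i => ?_⟩
  refine he2 i (fun j => ρ (t j)) (ρ i) (fun β => ∏ l, ρ (β l)) ?_ fun β => ?_
  · obtain ⟨i₀, hi₀⟩ := Function.ne_iff.1 hρ0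
    intro h
    have h1 := congrFun h fun _ => i₀
    dsimp only at h1
    rw [Finset.prod_const, Pi.zero_apply] at h1
    exact pow_ne_zero _ hi₀ h1
  · have h1 := hb2 i β ρ hρ
    rw [map_mul, eval_X, map_prod] at h1
    simp only [eval_X] at h1
    rw [h1]
    have h2 : ∀ j, eval ρ (b i β j) = ∑ β', c i β j β' * ∏ l, ρ (β' l) := by
      intro j
      rw [hc i β j, map_sum]
      refine Finset.sum_congr rfl fun β' _ => ?_
      rw [map_mul, eval_C, map_prod]
      simp only [eval_X]
    simp only [h2, Finset.sum_mul]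
    rw [Finset.sum_comm]
    refine Finset.sum_congr rfl fun β' _ => Finset.sum_congr rfl fun j _ => ?_
    ring

end K89.IntAlg
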